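import Mathlib

/-!
# Flat systems over a local Artinian ring

Abstract dévissage: a "sheaf-like" system of flat `R`-algebras over a local Artinian ring `R`
whose reduction mod `𝔪` has only constant global sections, has only constant global sections.
-/

set_option autoImplicit false
universe u

open TensorProduct

namespace Groth.Agent.Helper19.ArtFlat

section L1
variable {R A : Type*} [CommRing R] [IsLocalRing R] [CommRing A] [Algebra R A]

lemma tmul_mk_one_eq_zero (I' : Ideal R) (a : A) (ha : a ∈ I'.map (algebraMap R A)) :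
    a ⊗ₜ[R] (Submodule.Quotient.mk (1 : R) : R ⧸ I') = 0 := by
  induction ha using Submodule.span_induction with
  | mem a ha =>
    obtain ⟨y, hy, rfl⟩ := ha
    rw [Algebra.algebraMap_eq_smul_one, TensorProduct.smul_tmul, ← Submodule.Quotient.mk_smul,
      smul_eq_mul, mul_one, (Submodule.Quotient.mk_eq_zero I').mpr hy, TensorProduct.tmul_zero]
  | zero => rw [TensorProduct.zero_tmul]
  | add a b _ _ ha hb => rw [TensorProduct.add_tmul, ha, hb, add_zero]
  | smul c a _ ha =>
    rw [smul_eq_mul, ← smul_eq_mul, ← TensorProduct.smul_tmul', ha, smul_zero]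

theorem mem_map_maximalIdeal_of_mul_mem [Module.Flat R A]
    (I' : Ideal R) (x : R) (hx : x ∉ I')
    (hmx : ∀ r ∈ IsLocalRing.maximalIdeal R, r * x ∈ I') (b : A)
    (hb : algebraMap R A x * b ∈ I'.map (algebraMap R A)) :
    b ∈ (IsLocalRing.maximalIdeal R).map (algebraMap R A) := by
  let f : R →ₗ[R] R ⧸ I' := (Submodule.mkQ I') ∘ₗ (LinearMap.mulRight R x)
  let ι : IsLocalRing.maximalIdeal R →ₗ[R] R := Submodule.subtype _
  have hexact : Function.Exact ι f := by
    intro r
    constructor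
    · intro hr
      have hr' : r * x ∈ I' := (Submodule.Quotient.mk_eq_zero I').mp hr
      by_contra hnot
      have hrm : r ∉ IsLocalRing.maximalIdeal R := fun h => hnot ⟨⟨r, h⟩, rfl⟩
      have hu : IsUnit r := by
        by_contra hnu
        exact hrm ((IsLocalRing.mem_maximalIdeal r).mpr hnu)
      obtain ⟨u, rfl⟩ := hu
      apply hx
      have := I'.mul_mem_left (↑u⁻¹ : R) hr'
      rwa [← mul_assoc, Units.inv_mul, one_mul] at this
    · rintro ⟨⟨r, hr⟩, rfl⟩
      exact (Submodule.Quotient.mk_eq_zero I').mpr (hmx r hr)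
  have hex2 := Module.Flat.lTensor_exact A hexact
  have h0 : (f.lTensor A) (b ⊗ₜ[R] (1 : R)) = 0 := by
    rw [LinearMap.lTensor_tmul]
    have : f 1 = x • (Submodule.Quotient.mk (1 : R) : R ⧸ I') := by
      change Submodule.Quotient.mk (1 * x) = _
      rw [← Submodule.Quotient.mk_smul, smul_eq_mul, mul_comm]
    rw [this, ← TensorProduct.smul_tmul, Algebra.smul_def]
    exact tmul_mk_one_eq_zero I' _ hb
  obtain ⟨z, hz⟩ := (hex2 _).mp h0
  have key : ∀ z : A ⊗[R] (IsLocalRing.maximalIdeal R),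
      TensorProduct.rid R A ((ι.lTensor A) z) ∈ (IsLocalRing.maximalIdeal R).map (algebraMap R A) := by
    intro z
    induction z using TensorProduct.induction_on with
    | zero => simp
    | tmul a r =>
      rw [LinearMap.lTensor_tmul, TensorProduct.rid_tmul]
      change (r : R) • a ∈ _
      rw [Algebra.smul_def]
      exact Ideal.mul_mem_right _ _ (Ideal.mem_map_of_mem _ r.2)
    | add z w hz hw =>
      rw [map_add, map_add]
      exact Ideal.add_mem _ hz hw
  have := key z
  rw [hz, TensorProduct.rid_tmul, one_smul] at this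
  exact this

end L1

lemma mul_mem_map_of_forall {R A : Type*} [CommRing R] [CommRing A] (ψ : R →+* A)
    (J I' : Ideal R) (x : R) (h : ∀ r ∈ J, r * x ∈ I') (t : A) (ht : t ∈ J.map ψ) :
    ψ x * t ∈ I'.map ψ := by
  induction ht using Submodule.span_induction with
  | mem t ht =>
    obtain ⟨r, hr, rfl⟩ := ht
    rw [← map_mul, mul_comm]
    exact Ideal.mem_map_of_mem _ (h r hr)
  | zero => rw [mul_zero]; exact Ideal.zero_mem _
  | add a b _ _ ha hb => rw [mul_add]; exact Ideal.add_mem _ ha hb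
  | smul c a _ ha =>
    rw [smul_eq_mul, mul_left_comm]
    exact Ideal.mul_mem_left _ _ ha

section Sys

/-- A system of `R`-algebras `A i` receiving compatible maps from a ring `M` of "global sections". -/
structure Sys (R : Type u) [CommRing R] (M : Type u) [CommRing M] (ι : Type u)
    (A : ι → Type u) [∀ i, CommRing (A i)] where
  /-- `le j i`: `j` is smaller than `i` -/
  le : ι → ι → Prop
  φ : R →+* M
  ρ : ∀ i, M →+* A i
  res : ∀ i j, le j i → (A i →+* A j)
  res_ρ : ∀ i j (h : le j i) (s : M), res i j h (ρ i s) = ρ j s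
  flat : ∀ i, ((ρ i).comp φ).Flat
  sep : ∀ s : M, (∀ i, ρ i s = 0) → s = 0

variable {R : Type u} [CommRing R] {M : Type u} [CommRing M] {ι : Type u}
  {A : ι → Type u} [∀ i, CommRing (A i)] (S : Sys R M ι A)

/-- the structure map `R → A i` -/
abbrev Sys.ψ (i : ι) : R →+* A i := (S.ρ i).comp S.φ

lemma Sys.res_ψ (i j : ι) (h : S.le j i) (c : R) : S.res i j h (S.ψ i c) = S.ψ j c :=
  S.res_ρ i j h (S.φ c)

lemma Sys.res_mem (i j : ι) (h : S.le j i) (I : Ideal R) (a : A i) (ha : a ∈ I.map (S.ψ i)) :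
    S.res i j h a ∈ I.map (S.ψ j) := by
  have hcomp : (S.res i j h).comp (S.ψ i) = S.ψ j := RingHom.ext fun c => S.res_ψ i j h c
  have := Ideal.mem_map_of_mem (S.res i j h) ha
  rwa [Ideal.map_map, hcomp] at this

/-- the fibre condition: families compatible mod `𝔪` are constant mod `𝔪` -/
def Sys.FibreConst [IsLocalRing R] : Prop :=
  ∀ b : ∀ i, A i,
    (∀ i j (h : S.le j i), S.res i j h (b i) - b j ∈ (IsLocalRing.maximalIdeal R).map (S.ψ j)) →
    ∃ c : R, ∀ i, b i - S.ψ i c ∈ (IsLocalRing.maximalIdeal R).map (S.ψ i)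

/-- `P I`: every global section is constant modulo `I`. -/
def Sys.P (I : Ideal R) : Prop :=
  ∀ s : M, ∃ c : R, ∀ i, S.ρ i (s - S.φ c) ∈ I.map (S.ψ i)

variable [IsLocalRing R]

lemma Sys.P_maximalIdeal (hF : S.FibreConst) : S.P (IsLocalRing.maximalIdeal R) := by
  intro s
  obtain ⟨c, hc⟩ := hF (fun i => S.ρ i s) (fun i j h => by
    rw [S.res_ρ, sub_self]; exact Ideal.zero_mem _)
  refine ⟨c, fun i => ?_⟩
  rw [map_sub]
  exact hc i

/-- the inductive step -/
lemma Sys.P_step (hF : S.FibreConst) (I I' : Ideal R) (x : R) (hxI : x ∈ I) (hx : x ∉ I')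
    (hI'I : I' ≤ I)
    (hmx : ∀ r ∈ IsLocalRing.maximalIdeal R, r * x ∈ I')
    (hsup : ∀ y ∈ I, ∃ a : R, y - a * x ∈ I') (hP : S.P I) : S.P I' := by
  intro s
  obtain ⟨c₁, hc₁⟩ := hP s
  -- decompose on each member
  have hdec : ∀ i, ∃ b : A i, S.ρ i (s - S.φ c₁) - S.ψ i x * b ∈ I'.map (S.ψ i) := by
    intro i
    have hle : I.map (S.ψ i) ≤ I'.map (S.ψ i) ⊔ Ideal.span {S.ψ i x} := by
      rw [Ideal.map_le_iff_le_comap]
      intro y hy
      obtain ⟨a, ha⟩ := hsup y hy
      rw [Ideal.mem_comap]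
      have : S.ψ i y = S.ψ i (y - a * x) + S.ψ i a * S.ψ i x := by
        rw [← map_mul, ← map_add]; congr 1; ring
      rw [this]
      exact Ideal.add_mem _ (Ideal.mem_sup_left (Ideal.mem_map_of_mem _ ha))
        (Ideal.mem_sup_right (Ideal.mul_mem_left _ _ (Ideal.subset_span rfl)))
    obtain ⟨u, hu, v, hv, huv⟩ := Submodule.mem_sup.mp (hle (hc₁ i))
    obtain ⟨b, rfl⟩ := Ideal.mem_span_singleton'.mp hv
    refine ⟨b, ?_⟩
    rw [← huv, mul_comm, add_sub_cancel_right]
    exact hu
  choose b hb using hdec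
  have hcompat : ∀ i j (h : S.le j i),
      S.res i j h (b i) - b j ∈ (IsLocalRing.maximalIdeal R).map (S.ψ j) := by
    intro i j h
    letI := (S.ψ j).toAlgebra
    haveI : Module.Flat R (A j) := S.flat j
    refine mem_map_maximalIdeal_of_mul_mem (A := A j) I' x hx hmx _ ?_
    change S.ψ j x * (S.res i j h (b i) - b j) ∈ I'.map (S.ψ j)
    have h1 := S.res_mem i j h I' _ (hb i)
    rw [map_sub, map_mul, S.res_ρ, S.res_ψ] at h1
    have h2 := hb j
    have : S.ψ j x * (S.res i j h (b i) - b j) =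
        (S.ρ j (s - S.φ c₁) - S.ψ j x * b j) - (S.ρ j (s - S.φ c₁) - S.ψ j x * S.res i j h (b i)) := by
      ring
    rw [this]
    exact Ideal.sub_mem _ h2 h1
  obtain ⟨c, hc⟩ := hF b hcompat
  refine ⟨c₁ + x * c, fun i => ?_⟩
  have : S.ρ i (s - S.φ (c₁ + x * c)) =
      (S.ρ i (s - S.φ c₁) - S.ψ i x * b i) + S.ψ i x * (b i - S.ψ i c) := by
    simp only [map_sub, map_add, map_mul, RingHom.comp_apply]
    ring
  rw [this]
  refine Ideal.add_mem _ (hb i) ?_
  exact mul_mem_map_of_forall (S.ψ i) _ I' x hmx _ (hc i)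

omit [IsLocalRing R] in
lemma Sys.surjective_of_P_bot (hP : S.P ⊥) : Function.Surjective S.φ := by
  intro s
  obtain ⟨c, hc⟩ := hP s
  refine ⟨c, ?_⟩
  have : s - S.φ c = 0 := by
    apply S.sep
    intro i
    have := hc i
    rwa [Ideal.map_bot, Ideal.mem_bot] at this
  exact (sub_eq_zero.mp this).symm

end Sys

/-- in a Noetherian local ring, every nonzero ideal has a "simple quotient" step -/
lemma exists_step {R : Type*} [CommRing R] [IsLocalRing R] [IsNoetherianRing R] (I : Ideal R)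
    (hI : I ≠ ⊥) :
    ∃ (I' : Ideal R) (x : R), I' < I ∧ x ∈ I ∧ x ∉ I' ∧
      (∀ r ∈ IsLocalRing.maximalIdeal R, r * x ∈ I') ∧ (∀ y ∈ I, ∃ a : R, y - a * x ∈ I') := by
  obtain ⟨I', hI'lt, hmax⟩ := set_has_maximal_iff_noetherian.mpr (inferInstance : IsNoetherian R R)
    {J : Ideal R | J < I} ⟨⊥, bot_lt_iff_ne_bot.mpr hI⟩
  have hI'lt' : I' < I := hI'lt
  obtain ⟨x, hxI, hx⟩ := SetLike.exists_of_lt hI'lt'
  -- any ideal strictly between is everything
  have key : ∀ z ∈ I, z ∉ I' → I' ⊔ Ideal.span {z} = I := by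
    intro z hzI hz
    have hle : I' ⊔ Ideal.span {z} ≤ I :=
      sup_le hI'lt'.le ((Ideal.span_singleton_le_iff_mem _).mpr hzI)
    have hlt : I' < I' ⊔ Ideal.span {z} := by
      refine lt_of_le_of_ne le_sup_left fun h => hz ?_
      rw [h]
      exact Ideal.mem_sup_right (Ideal.subset_span rfl)
    by_contra hne
    exact hmax _ (lt_of_le_of_ne hle hne) hlt
  refine ⟨I', x, hI'lt', hxI, hx, ?_, ?_⟩
  · intro r hr
    by_contra hrx
    have h1 := key (r * x) (I.mul_mem_left r hxI) hrx
    have hxm : x ∈ I' ⊔ Ideal.span {r * x} := h1 ▸ hxI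
    obtain ⟨u, hu, v, hv, huv⟩ := Submodule.mem_sup.mp hxm
    obtain ⟨a, rfl⟩ := Ideal.mem_span_singleton'.mp hv
    have h2 : (1 - a * r) * x = u := by linear_combination (-1 : R) * huv
    have hunit : IsUnit (1 - a * r) := by
      by_contra hnu
      have h3 : 1 - a * r ∈ IsLocalRing.maximalIdeal R := (IsLocalRing.mem_maximalIdeal _).mpr hnu
      have h4 : a * r ∈ IsLocalRing.maximalIdeal R := Ideal.mul_mem_left _ a hr
      have h5 : (1 : R) ∈ IsLocalRing.maximalIdeal R := by
        have := Ideal.add_mem _ h3 h4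
        rwa [sub_add_cancel] at this
      exact (Ideal.ne_top_iff_one _).mp (IsLocalRing.maximalIdeal.isMaximal R).ne_top h5
    obtain ⟨w, hw⟩ := hunit
    apply hx
    have := Ideal.mul_mem_left (I' : Ideal R) (↑w⁻¹ : R) (h2 ▸ hu)
    rwa [← hw, ← mul_assoc, Units.inv_mul, one_mul] at this
  · intro y hy
    have hym : y ∈ I' ⊔ Ideal.span {x} := (key x hxI hx) ▸ hy
    obtain ⟨u, hu, v, hv, huv⟩ := Submodule.mem_sup.mp hym
    obtain ⟨a, rfl⟩ := Ideal.mem_span_singleton'.mp hv
    exact ⟨a, by rw [← huv, add_sub_cancel_right]; exact hu⟩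

section Main

variable {R : Type u} [CommRing R] {M : Type u} [CommRing M] {ι : Type u}
  {A : ι → Type u} [∀ i, CommRing (A i)] (S : Sys R M ι A) [IsLocalRing R] [IsArtinianRing R]

theorem Sys.surjective (hF : S.FibreConst) : Function.Surjective S.φ := by
  apply S.surjective_of_P_bot
  have hwf : WellFoundedLT (Ideal R) := inferInstanceAs (WellFoundedLT (Submodule R R))
  have main : ∀ I : Ideal R, S.P I → S.P ⊥ := by
    intro I
    induction I using hwf.induction with
    | _ I ih =>
      intro hP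
      by_cases hI : I = ⊥
      · exact hI ▸ hP
      · obtain ⟨I', x, hlt, hxI, hx, hmx, hsup⟩ := exists_step I hI
        exact ih I' hlt (S.P_step hF I I' x hxI hx hlt.le hmx hsup hP)
  exact main _ (S.P_maximalIdeal hF)

theorem Sys.injective (hne : ∃ i, Nontrivial (A i)) : Function.Injective S.φ := by
  obtain ⟨i, hi⟩ := hne
  letI := (S.ψ i).toAlgebra
  haveI : Module.Flat R (A i) := S.flat i
  haveI : Module.FaithfullyFlat R (A i) := by
    refine ⟨fun m hm => ?_⟩
    rw [IsLocalRing.eq_maximalIdeal hm]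
    intro htop
    obtain ⟨n, hn⟩ := IsArtinianRing.isNilpotent_jacobson_bot (R := R)
    rw [IsLocalRing.jacobson_eq_maximalIdeal ⊥ bot_ne_top] at hn
    have hpow : ∀ k : ℕ, (IsLocalRing.maximalIdeal R ^ k) • (⊤ : Submodule R (A i)) = ⊤ := by
      intro k
      induction k with
      | zero => rw [pow_zero, Ideal.one_eq_top, Submodule.top_smul]
      | succ k ih => rw [pow_succ, mul_smul, htop, ih]
    have := hpow n
    rw [hn, Submodule.zero_eq_bot, Submodule.bot_smul] at this
    exact bot_ne_top this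
  have hinj : Function.Injective (S.ψ i) := FaithfulSMul.algebraMap_injective R (A i)
  intro a b hab
  apply hinj
  change S.ρ i (S.φ a) = S.ρ i (S.φ b)
  rw [hab]

theorem Sys.bijective (hF : S.FibreConst) (hne : ∃ i, Nontrivial (A i)) :
    Function.Bijective S.φ :=
  ⟨S.injective hne, S.surjective hF⟩

end Main

end Groth.Agent.Helper19.ArtFlat
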