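import Mathlib
import Groth.Agent.Lib.Helper19.ArtFlat.Alg

/-!
# Global sections of a flat scheme over a local Artinian base
-/

set_option autoImplicit false
universe u

open AlgebraicGeometry CategoryTheory CategoryTheory.Limits TopologicalSpace Opposite

namespace Groth.Agent.Helper19.ArtFlat

variable {X S : Scheme.{u}}

/-- restriction of sections of the structure sheaf -/
noncomputable abbrev rs {U V : X.Opens} (h : V ≤ U) : Γ(X, U) →+* Γ(X, V) :=
  (X.presheaf.map (homOfLE h).op).hom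

lemma rs_rs {U₁ U₂ U₃ : X.Opens} (h₁₂ : U₂ ≤ U₁) (h₂₃ : U₃ ≤ U₂) (s : Γ(X, U₁)) :
    rs h₂₃ (rs h₁₂ s) = rs (h₂₃.trans h₁₂) s := by
  dsimp only [rs]
  rw [← CommRingCat.comp_apply, ← Functor.map_comp]
  rfl

/-- a section vanishing on all affine opens vanishes -/
lemma eq_zero_of_forall_affine {W : X.Opens} (s : Γ(X, W))
    (h : ∀ U : X.affineOpens, ∀ hU : U.1 ≤ W, rs hU s = 0) : s = 0 := by
  refine X.sheaf.eq_of_locally_eq' (fun U : {U : X.affineOpens // U.1 ≤ W} => U.1.1) W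
    (fun U => homOfLE U.2) ?_ s 0 ?_
  · intro x hx
    obtain ⟨U, hU, hxU, hUW⟩ := (Opens.isBasis_iff_nbhd.mp X.isBasis_affineOpens) hx
    exact Opens.mem_iSup.mpr ⟨⟨⟨U, hU⟩, hUW⟩, hxU⟩
  · rintro ⟨U, hU⟩
    change rs hU s = rs hU 0
    rw [h U hU, map_zero]

/-- the system attached to a flat morphism to an affine scheme -/
noncomputable def sysOf (g : X ⟶ S) [Flat g] [IsAffine S] :
    Sys Γ(S, ⊤) Γ(X, ⊤) X.affineOpens (fun U => Γ(X, U.1)) where
  le V U := V.1 ≤ U.1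
  φ := g.appTop.hom
  ρ U := rs le_top
  res U V h := rs h
  res_ρ U V h s := rs_rs _ _ s
  flat U := by
    have := HasRingHomProperty.appLE (P := @Flat) g inferInstance ⟨⊤, isAffineOpen_top S⟩ U
      (show U.1 ≤ g ⁻¹ᵁ ⊤ from le_top)
    exact this
  sep s hs := eq_zero_of_forall_affine s fun U hU => hs U

section Fibre

variable {X₀ T : Scheme.{u}} {g : X ⟶ S} {i : X₀ ⟶ X} {f₀ : X₀ ⟶ T} {q : T ⟶ S}

/-- sections pulled back from `S` that die on `T` die on `X₀` -/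
lemma app_kill (hsq : IsPullback i f₀ g q) (U : X.Opens) (r : Γ(S, ⊤)) (hr : q.appTop.hom r = 0) :
    (i.app U).hom (rs le_top (g.appTop.hom r)) = 0 := by
  have hnat := congr($(i.naturality (homOfLE (le_top : U ≤ ⊤)).op).hom (g.appTop.hom r))
  simp only [CommRingCat.hom_comp, RingHom.coe_comp, Function.comp_apply] at hnat
  change (i.app U).hom ((X.presheaf.map (homOfLE (le_top : U ≤ ⊤)).op).hom (g.appTop.hom r)) = 0
  rw [hnat]
  have h2 : (i.app ⊤).hom (g.appTop.hom r) = (f₀.appTop).hom (q.appTop.hom r) := by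
    have := congr($(Scheme.Hom.comp_appTop i g).hom r)
    have h3 := congr($(Scheme.Hom.comp_appTop f₀ q).hom r)
    simp only [CommRingCat.hom_comp, RingHom.coe_comp, Function.comp_apply] at this h3
    change (i.appTop).hom (g.appTop.hom r) = _
    rw [← this, ← h3]
    exact congr($(congrArg Scheme.Hom.appTop hsq.w).hom r)
  rw [h2, hr, map_zero]
  exact map_zero _

/-- the kernel of `Γ(X, U) → Γ(X₀, i⁻¹U)` for affine `U` -/
lemma mem_map_of_app_eq_zero (hsq : IsPullback i f₀ g q) [IsAffine S] [IsAffine T]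
    (hq : Function.Surjective q.appTop.hom) (U : X.affineOpens) (a : Γ(X, U.1))
    (ha : (i.app U.1).hom a = 0) :
    a ∈ (RingHom.ker q.appTop.hom).map ((rs (le_top : U.1 ≤ ⊤)).comp g.appTop.hom) := by
  have hUST : (⊤ : T.Opens) ≤ q ⁻¹ᵁ ⊤ := le_top
  have hUSX : U.1 ≤ g ⁻¹ᵁ ⊤ := le_top
  have hiso := isIso_pushoutSection_of_isAffineOpen hsq hUST hUSX
    (UY := i ⁻¹ᵁ U.1 ⊓ f₀ ⁻¹ᵁ ⊤) rfl (isAffineOpen_top S) (isAffineOpen_top T) U.2
  have hpo := (isIso_pushoutSection_iff hsq hUST hUSX rfl).mp hiso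
  set J := (RingHom.ker q.appTop.hom).map ((rs (le_top : U.1 ≤ ⊤)).comp g.appTop.hom) with hJ
  have hqe : q.appLE ⊤ ⊤ hUST = q.appTop := q.appLE_eq_app
  have hge : (g.appLE ⊤ U.1 hUSX).hom = (rs (le_top : U.1 ≤ ⊤)).comp g.appTop.hom := rfl
  have hsurj' : Function.Surjective (q.appLE ⊤ ⊤ hUST).hom := by rw [hqe]; exact hq
  have hker : RingHom.ker (q.appLE ⊤ ⊤ hUST).hom ≤
      RingHom.ker ((Ideal.Quotient.mk J).comp (g.appLE ⊤ U.1 hUSX).hom) := by
    intro r hr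
    rw [hqe] at hr
    rw [RingHom.mem_ker, RingHom.comp_apply, Ideal.Quotient.eq_zero_iff_mem, hge]
    exact Ideal.mem_map_of_mem _ hr
  let h' : Γ(X, U.1) ⟶ CommRingCat.of (Γ(X, U.1) ⧸ J) := CommRingCat.ofHom (Ideal.Quotient.mk J)
  let k : Γ(T, ⊤) ⟶ CommRingCat.of (Γ(X, U.1) ⧸ J) :=
    CommRingCat.ofHom (RingHom.liftOfSurjective (q.appLE ⊤ ⊤ hUST).hom hsurj'
      ⟨(Ideal.Quotient.mk J).comp (g.appLE ⊤ U.1 hUSX).hom, hker⟩)
  have w : g.appLE ⊤ U.1 hUSX ≫ h' = q.appLE ⊤ ⊤ hUST ≫ k := by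
    ext r
    simp only [h', k, CommRingCat.hom_comp, CommRingCat.hom_ofHom, RingHom.coe_comp,
      Function.comp_apply]
    exact (congrArg (fun t : _ →+* _ => t r) (RingHom.liftOfSurjective_comp
      (q.appLE ⊤ ⊤ hUST).hom hsurj' ⟨(Ideal.Quotient.mk J).comp (g.appLE ⊤ U.1 hUSX).hom, hker⟩)).symm
  have hdesc := hpo.inl_desc h' k w
  have h1 := congr($(hdesc).hom a)
  simp only [CommRingCat.hom_comp, RingHom.coe_comp, Function.comp_apply] at h1
  have h2 : (i.appLE U.1 (i ⁻¹ᵁ U.1 ⊓ f₀ ⁻¹ᵁ ⊤) (by simp)).hom a = 0 := by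
    change (X₀.presheaf.map _).hom ((i.app U.1).hom a) = 0
    rw [ha, map_zero]
  rw [h2, map_zero] at h1
  have h3 : Ideal.Quotient.mk J a = 0 := h1.symm
  exact Ideal.Quotient.eq_zero_iff_mem.mp h3

/-- naturality of `i.app` with respect to restrictions -/
lemma app_rs (i : X₀ ⟶ X) {U V : X.Opens} (h : V ≤ U) (a : Γ(X, U)) :
    (i.app V).hom (rs h a) =
      (X₀.presheaf.map (homOfLE (show i ⁻¹ᵁ V ≤ i ⁻¹ᵁ U from i.preimage_mono h)).op).hom
        ((i.app U).hom a) := by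
  have hnat := congr($(i.naturality (homOfLE h).op).hom a)
  simp only [CommRingCat.hom_comp, RingHom.coe_comp, Function.comp_apply] at hnat
  exact hnat

lemma app_eq_zero_of_mem (hsq : IsPullback i f₀ g q) (U : X.Opens) (a : Γ(X, U))
    (ha : a ∈ (RingHom.ker q.appTop.hom).map ((rs (le_top : U ≤ ⊤)).comp g.appTop.hom)) :
    (i.app U).hom a = 0 := by
  have hle : (RingHom.ker q.appTop.hom).map ((rs (le_top : U ≤ ⊤)).comp g.appTop.hom) ≤
      RingHom.ker (i.app U).hom := by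
    rw [Ideal.map_le_iff_le_comap]
    intro r hr
    rw [Ideal.mem_comap, RingHom.mem_ker]
    exact app_kill hsq U r hr
  exact hle ha

/-- gluing a family over the preimages of affine opens -/
lemma exists_glue (i : X₀ ⟶ X) (t : ∀ U : X.affineOpens, Γ(X₀, i ⁻¹ᵁ U.1))
    (ht : ∀ (U V : X.affineOpens) (h : V.1 ≤ U.1),
       (X₀.presheaf.map (homOfLE (show i ⁻¹ᵁ V.1 ≤ i ⁻¹ᵁ U.1 from i.preimage_mono h)).op).hom (t U)
        = t V) :
    ∃ s : Γ(X₀, ⊤), ∀ U : X.affineOpens,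
      (X₀.presheaf.map (homOfLE (le_top : i ⁻¹ᵁ U.1 ≤ ⊤)).op).hom s = t U := by
  have hcover : (⊤ : X₀.Opens) ≤ ⨆ U : X.affineOpens, i ⁻¹ᵁ U.1 := by
    intro x _
    obtain ⟨U, hU, hxU, -⟩ := (Opens.isBasis_iff_nbhd.mp X.isBasis_affineOpens)
      (show i x ∈ (⊤ : X.Opens) from trivial)
    exact Opens.mem_iSup.mpr ⟨⟨U, hU⟩, hxU⟩
  have hcompat : TopCat.Presheaf.IsCompatible X₀.sheaf.1 (fun U : X.affineOpens => i ⁻¹ᵁ U.1) t := by
    intro U U'
    refine X₀.sheaf.eq_of_locally_eq'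
      (fun V : {V : X.affineOpens // V.1 ≤ U.1 ⊓ U'.1} => i ⁻¹ᵁ V.1.1) (i ⁻¹ᵁ U.1 ⊓ i ⁻¹ᵁ U'.1)
      (fun V => homOfLE (show i ⁻¹ᵁ V.1.1 ≤ i ⁻¹ᵁ U.1 ⊓ i ⁻¹ᵁ U'.1 from
        le_inf (i.preimage_mono (V.2.trans inf_le_left)) (i.preimage_mono (V.2.trans inf_le_right))))
      ?_ _ _ ?_
    · intro x hx
      obtain ⟨V, hV, hxV, hVU⟩ := (Opens.isBasis_iff_nbhd.mp X.isBasis_affineOpens)
        (show i x ∈ U.1 ⊓ U'.1 from hx)
      exact Opens.mem_iSup.mpr ⟨⟨⟨V, hV⟩, hVU⟩, hxV⟩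
    · rintro ⟨V, hV⟩
      have h1 := ht U V (hV.trans inf_le_left)
      have h2 := ht U' V (hV.trans inf_le_right)
      change (X₀.presheaf.map _).hom ((X₀.presheaf.map _).hom (t U)) =
        (X₀.presheaf.map _).hom ((X₀.presheaf.map _).hom (t U'))
      rw [← CommRingCat.comp_apply, ← CommRingCat.comp_apply, ← Functor.map_comp,
        ← Functor.map_comp]
      exact h1.trans h2.symm
  obtain ⟨s, hs, -⟩ := X₀.sheaf.existsUnique_gluing' (fun U : X.affineOpens => i ⁻¹ᵁ U.1) ⊤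
    (fun U => homOfLE le_top) hcover t hcompat
  exact ⟨s, hs⟩

theorem fibreConst (hsq : IsPullback i f₀ g q) [Flat g] [IsAffine S] [IsAffine T]
    [IsLocalRing Γ(S, ⊤)]
    (hq : Function.Surjective q.appTop.hom)
    (hker : RingHom.ker q.appTop.hom = IsLocalRing.maximalIdeal Γ(S, ⊤))
    (h0 : Function.Surjective f₀.appTop.hom) : (sysOf g).FibreConst := by
  intro b hb
  -- the family on `X₀`
  have ht : ∀ (U V : X.affineOpens) (h : V.1 ≤ U.1),
      (X₀.presheaf.map (homOfLE (show i ⁻¹ᵁ V.1 ≤ i ⁻¹ᵁ U.1 from i.preimage_mono h)).op).hom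
        ((i.app U.1).hom (b U)) = (i.app V.1).hom (b V) := by
    intro U V h
    rw [← app_rs i h (b U)]
    have h1 := hb U V h
    rw [← hker] at h1
    have h2 := app_eq_zero_of_mem hsq V.1 _ h1
    rw [map_sub, sub_eq_zero] at h2
    exact h2
  obtain ⟨s, hs⟩ := exists_glue i (fun U => (i.app U.1).hom (b U)) ht
  obtain ⟨κ, hκ⟩ := h0 s
  obtain ⟨c, hc⟩ := hq κ
  refine ⟨c, fun U => ?_⟩
  rw [← hker]
  refine mem_map_of_app_eq_zero hsq hq U _ ?_
  rw [map_sub, sub_eq_zero]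
  change (i.app U.1).hom (b U) = (i.app U.1).hom (rs le_top (g.appTop.hom c))
  rw [app_rs i (le_top : U.1 ≤ ⊤), ← hs U]
  congr 1
  -- `s = i.appTop (g.appTop c)`
  have h2 : (i.app ⊤).hom (g.appTop.hom c) = (f₀.appTop).hom (q.appTop.hom c) := by
    have := congr($(Scheme.Hom.comp_appTop i g).hom c)
    have h3 := congr($(Scheme.Hom.comp_appTop f₀ q).hom c)
    simp only [CommRingCat.hom_comp, RingHom.coe_comp, Function.comp_apply] at this h3
    change (i.appTop).hom (g.appTop.hom c) = _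
    rw [← this, ← h3]
    exact congr($(congrArg Scheme.Hom.appTop hsq.w).hom c)
  rw [h2, hc, hκ]

/-- **Main theorem**: flat `X` over a local Artinian affine base `S`, closed fibre `X₀` over the
closed point `T`; if `Γ(T) → Γ(X₀)` is bijective then `Γ(S) → Γ(X)` is bijective. -/
theorem bijective_appTop (hsq : IsPullback i f₀ g q) [Flat g] [IsAffine S] [IsAffine T]
    [IsLocalRing Γ(S, ⊤)] [IsArtinianRing Γ(S, ⊤)] [Nontrivial Γ(T, ⊤)]
    (hq : Function.Surjective q.appTop.hom)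
    (hker : RingHom.ker q.appTop.hom = IsLocalRing.maximalIdeal Γ(S, ⊤))
    (h0 : Function.Bijective f₀.appTop.hom) : Function.Bijective g.appTop.hom := by
  refine (sysOf g).bijective (fibreConst hsq hq hker h0.2) ?_
  -- `X` is nonempty
  have hne : Nontrivial Γ(X₀, ⊤) := h0.1.nontrivial
  have hX₀ : Nonempty X₀ := by
    by_contra hempty
    rw [not_nonempty_iff] at hempty
    have : Subsingleton Γ(X₀, ⊤) := by
      have hbot : (⊤ : X₀.Opens) = ⊥ := by
        ext x; exact hempty.elim x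
      rw [hbot]
      exact CommRingCat.subsingleton_of_isTerminal (X₀.sheaf.isTerminalOfEqEmpty rfl)
    exact not_subsingleton _ this
  obtain ⟨x₀⟩ := hX₀
  obtain ⟨U, hU, hxU, -⟩ := (Opens.isBasis_iff_nbhd.mp X.isBasis_affineOpens)
    (show i x₀ ∈ (⊤ : X.Opens) from trivial)
  refine ⟨⟨U, hU⟩, ?_⟩
  haveI : Nonempty U := ⟨⟨i x₀, hxU⟩⟩
  exact Scheme.component_nontrivial X U

end Fibre

end Groth.Agent.Helper19.ArtFlat
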